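import Mathlib.LinearAlgebra.Dual.Lemmas
import Mathlib.RingTheory.Extension.Cotangent.Basic
import Mathlib.RingTheory.Smooth.Locus
import Mathlib.RingTheory.Nilpotent.Lemmas

/-! Square-zero extensions and their conormal sequences. -/

set_option autoImplicit false
set_option maxHeartbeats 1000000
set_option maxSynthPendingDepth 3

universe u

open Algebra TensorProduct KaehlerDifferential

noncomputable section

namespace Groth.Agent.SqZeroEx

variable {A B : Type u} [CommRing A] [CommRing B] [Algebra A B]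

/-- The localization of an extension at a prime of the target. -/
def locMap (P : Extension.{u} A B) (p : Ideal B) [p.IsPrime] :
    Localization (p.primeCompl.comap (algebraMap P.Ring B)) →ₐ[A] Localization.AtPrime p :=
  IsLocalization.liftAlgHom (M := p.primeCompl.comap (algebraMap P.Ring B))
    (f := (IsScalarTower.toAlgHom A B (Localization.AtPrime p)).comp (IsScalarTower.toAlgHom A P.Ring B))
    (fun y => IsLocalization.map_units (Localization.AtPrime p) (⟨_, y.2⟩ : p.primeCompl))

theorem locMap_algebraMap (P : Extension.{u} A B) (p : Ideal B) [p.IsPrime] (e : P.Ring) :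
    locMap P p (algebraMap P.Ring _ e) = algebraMap B (Localization.AtPrime p) (algebraMap P.Ring B e) :=
  IsLocalization.lift_eq _ e

theorem locMap_surjective (P : Extension.{u} A B) (p : Ideal B) [p.IsPrime] :
    Function.Surjective (locMap P p) := fun y => by
  obtain ⟨⟨b, t⟩, rfl⟩ := IsLocalization.mk'_surjective p.primeCompl y
  refine ⟨IsLocalization.mk' _ (P.σ b) (⟨P.σ t, Submonoid.mem_comap.2 (by rw [P.algebraMap_σ]; exact t.2)⟩ :
    p.primeCompl.comap (algebraMap P.Ring B)), ?_⟩
  rw [eq_comm, IsLocalization.mk'_eq_iff_eq_mul]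
  have := congrArg (locMap P p) (IsLocalization.mk'_spec (Localization (p.primeCompl.comap (algebraMap P.Ring B)))
    (P.σ b) (⟨P.σ t, Submonoid.mem_comap.2 (by rw [P.algebraMap_σ]; exact t.2)⟩ : p.primeCompl.comap (algebraMap P.Ring B)))
  simp only [map_mul, locMap_algebraMap, P.algebraMap_σ] at this
  exact this.symm

theorem locMap_ker_sq (P : Extension.{u} A B) (hsq : P.ker ^ 2 = ⊥) (p : Ideal B) [p.IsPrime] :
    RingHom.ker (locMap P p) ^ 2 = ⊥ := by
  let S₀ := p.primeCompl.comap (algebraMap P.Ring B)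
  have hle : RingHom.ker (locMap P p) ≤ P.ker.map (algebraMap P.Ring (Localization S₀)) := by
    intro x hx
    obtain ⟨⟨a, s⟩, h⟩ := IsLocalization.surj S₀ x
    have h2 : algebraMap B (Localization.AtPrime p) (algebraMap P.Ring B a) = 0 := by
      rw [← locMap_algebraMap, ← h, map_mul, RingHom.mem_ker.1 hx, zero_mul]
    obtain ⟨t, ht⟩ := (IsLocalization.map_eq_zero_iff p.primeCompl _ _).1 h2
    have hker : P.σ t * a ∈ P.ker := by
      rw [RingHom.mem_ker, map_mul, P.algebraMap_σ, ht]
    have hu : IsUnit (algebraMap P.Ring (Localization S₀) (s * P.σ t)) :=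
      IsLocalization.map_units (Localization S₀) (⟨s * P.σ t, Submonoid.mem_comap.2 (by
        rw [map_mul, P.algebraMap_σ]; exact p.primeCompl.mul_mem s.2 t.2)⟩ : S₀)
    refine (Ideal.mul_unit_mem_iff_mem _ hu).1 ?_
    rw [map_mul, ← mul_assoc, h, ← map_mul, mul_comm]
    exact Ideal.mem_map_of_mem _ hker
  refine le_bot_iff.1 ?_
  refine (Ideal.pow_right_mono hle 2).trans (le_of_eq ?_)
  rw [← Ideal.map_pow, hsq, Ideal.map_bot]

/-- The conormal map of a square-zero extension by a projective module over a generically smooth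
reduced algebra is injective. -/
theorem injective_cotangentComplex [IsReduced B]
    (hsm : ∀ p : PrimeSpectrum B, p.asIdeal ∈ minimalPrimes B → Algebra.IsSmoothAt A p.asIdeal)
    (P : Extension.{u} A B) (hsq : P.ker ^ 2 = ⊥) [Module.Projective B P.Cotangent] :
    Function.Injective P.cotangentComplex := by
  refine (injective_iff_map_eq_zero _).2 fun x hx => ?_
  by_contra hx0
  obtain ⟨l, hl⟩ := Module.Projective.exists_dual_ne_zero B hx0
  obtain ⟨p, hp, hlp⟩ : ∃ p ∈ minimalPrimes B, l x ∉ p := by
    by_contra h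
    push Not at h
    refine hl (IsReduced.eq_zero _ ?_)
    rw [← mem_nilradical, nilradical_eq_sInf]
    exact Ideal.mem_sInf.2 fun {I} hI => by
      haveI : I.IsPrime := hI
      obtain ⟨q, hq, hqI⟩ := Ideal.exists_minimalPrimes_le (I := ⊥) (J := I) bot_le
      exact hqI (h q hq)
  haveI := hp.1.1
  haveI : Algebra.FormallySmooth A (Localization.AtPrime p) := hsm ⟨p, hp.1.1⟩ hp
  let S₀ := p.primeCompl.comap (algebraMap P.Ring B)
  let g : Localization S₀ →ₐ[A] Localization.AtPrime p := locMap P p
  have hz : ∀ y z : Localization S₀, y ∈ RingHom.ker g → z ∈ RingHom.ker g → y * z = 0 := fun y z hy hz => by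
    have := Ideal.mul_mem_mul hy hz
    rwa [← pow_two, locMap_ker_sq P hsq p, Ideal.mem_bot] at this
  let sec : Localization.AtPrime p →ₐ[A] Localization S₀ :=
    FormallySmooth.liftOfSurjective (AlgHom.id A _) g (locMap_surjective P p) ⟨2, locMap_ker_sq P hsq p⟩
  have hsec : ∀ y, g (sec y) = y := fun y =>
    FormallySmooth.liftOfSurjective_apply (AlgHom.id A _) g (locMap_surjective P p) ⟨2, locMap_ker_sq P hsq p⟩ y
  let φ : P.Ring →ₐ[A] Localization S₀ := IsScalarTower.toAlgHom A P.Ring (Localization S₀)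
  let ψ : P.Ring →ₐ[A] Localization S₀ := sec.comp (IsScalarTower.toAlgHom A P.Ring (Localization.AtPrime p))
  have hd : ∀ e, φ e - ψ e ∈ RingHom.ker g := fun e => by
    rw [RingHom.mem_ker, map_sub]
    show g (algebraMap P.Ring (Localization S₀) e) - g (sec _) = 0
    rw [hsec, sub_eq_zero, locMap_algebraMap]
    exact (IsScalarTower.algebraMap_apply P.Ring B (Localization.AtPrime p) e).symm
  let D : Derivation A P.Ring (Localization S₀) := Derivation.mk' (φ.toLinearMap - ψ.toLinearMap) fun a b => by
    rw [Algebra.smul_def, Algebra.smul_def]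
    show φ (a * b) - ψ (a * b) = φ a * (φ b - ψ b) + φ b * (φ a - ψ a)
    have := hz _ _ (hd a) (hd b)
    rw [map_mul, map_mul]
    linear_combination (-1 : Localization S₀) * this
  have hDker : ∀ ω : Ω[P.Ring⁄A], D.liftKaehlerDifferential ω ∈ RingHom.ker g := by
    intro ω
    have hω : ω ∈ Submodule.span P.Ring (Set.range (KaehlerDifferential.D A P.Ring)) :=
      (KaehlerDifferential.span_range_derivation A P.Ring).symm ▸ Submodule.mem_top
    induction hω using Submodule.span_induction with
    | mem y hy =>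
      obtain ⟨e, rfl⟩ := hy
      rw [Derivation.liftKaehlerDifferential_comp_D]
      exact hd e
    | zero => rw [map_zero]; exact zero_mem _
    | add a b _ _ h1 h2 => rw [map_add]; exact add_mem h1 h2
    | smul r a _ h1 =>
      rw [map_smul, Algebra.smul_def]
      exact Ideal.mul_mem_left _ _ h1
  have hσ : ∀ (b : B) (e : P.Ring), P.σ (e • b) - e * P.σ b ∈ P.ker := fun b e => by
    rw [RingHom.mem_ker, map_sub, map_mul, P.algebraMap_σ, P.algebraMap_σ, Algebra.smul_def, sub_self]
  have hφker : ∀ e ∈ P.ker, φ e ∈ RingHom.ker g := fun e he => by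
    rw [RingHom.mem_ker]
    show g (algebraMap P.Ring (Localization S₀) e) = 0
    rw [locMap_algebraMap, RingHom.mem_ker.1 he, map_zero]
  let T : B ⊗[P.Ring] Ω[P.Ring⁄A] →ₗ[P.Ring] Localization S₀ := TensorProduct.lift (LinearMap.mk₂ P.Ring
    (fun b ω => φ (P.σ b) * D.liftKaehlerDifferential ω)
    (fun b b' ω => by
      rw [← add_mul, ← sub_eq_zero, ← sub_mul, ← map_add, ← map_sub]
      exact hz _ _ (hφker _ (by rw [RingHom.mem_ker, map_sub, map_add, P.algebraMap_σ, P.algebraMap_σ, P.algebraMap_σ,
        sub_self])) (hDker ω))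
    (fun e b ω => by
      rw [Algebra.smul_def, Algebra.smul_def, ← sub_eq_zero]
      show φ (P.σ (algebraMap P.Ring B e * b)) * _ - φ e * (φ (P.σ b) * _) = 0
      rw [← mul_assoc, ← sub_mul, ← map_mul, ← map_sub, ← Algebra.smul_def e b]
      exact hz _ _ (hφker _ (hσ b e)) (hDker ω))
    (fun b ω ω' => by rw [map_add, mul_add])
    (fun e b ω => by rw [map_smul, mul_smul_comm]))
  obtain ⟨a, rfl⟩ := Extension.Cotangent.mk_surjective x
  rw [Extension.cotangentComplex_mk] at hx
  have hT : φ (P.σ 1) * D (a : P.Ring) = 0 := by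
    rw [← Derivation.liftKaehlerDifferential_comp_D D]
    exact (congrArg T hx).trans (map_zero T)
  have h1 : φ (P.σ 1) * D (a : P.Ring) = D (a : P.Ring) := by
    conv_rhs => rw [← one_mul (D (a : P.Ring))]
    rw [← sub_eq_zero, ← sub_mul, ← map_one φ, ← map_sub]
    exact hz _ _ (hφker _ (by rw [RingHom.mem_ker, map_sub, map_one, P.algebraMap_σ, sub_self])) (hd _)
  rw [h1] at hT
  have hψa : ψ (a : P.Ring) = 0 := by
    show sec (algebraMap P.Ring (Localization.AtPrime p) (a : P.Ring)) = 0
    rw [IsScalarTower.algebraMap_apply P.Ring B (Localization.AtPrime p), RingHom.mem_ker.1 a.2, map_zero, map_zero]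
  have hφa : algebraMap P.Ring (Localization S₀) (a : P.Ring) = 0 := by
    have : φ (a : P.Ring) - ψ (a : P.Ring) = 0 := hT
    rwa [hψa, sub_zero] at this
  obtain ⟨t, ht⟩ := (IsLocalization.map_eq_zero_iff S₀ _ _).1 hφa
  have h0 : (t : P.Ring) • Extension.Cotangent.mk a = 0 := by
    rw [← map_smul, show (t : P.Ring) • a = 0 from Subtype.ext ht, map_zero]
  rw [← algebraMap_smul B (t : P.Ring) (Extension.Cotangent.mk a)] at h0
  have h2 := congrArg l h0
  rw [map_smul, map_zero, smul_eq_mul] at h2
  exact hlp ((Ideal.IsPrime.mem_or_mem ‹_› (h2 ▸ p.zero_mem)).resolve_left t.2)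

theorem cotangentComplex_mk' (P : Extension.{u} A B) (a : P.ker) :
    P.cotangentComplex (Extension.Cotangent.mk a) = 1 ⊗ₜ KaehlerDifferential.D A P.Ring (a : P.Ring) := rfl

/-- `1 ⊗ de`. -/
def dd (P : Extension.{u} A B) (e : P.Ring) : P.CotangentSpace := (1 : B) ⊗ₜ KaehlerDifferential.D A P.Ring e

theorem dd_add (P : Extension.{u} A B) (e f : P.Ring) : dd P (e + f) = dd P e + dd P f := by
  simp [dd, TensorProduct.tmul_add]

theorem dd_mul (P : Extension.{u} A B) (e f : P.Ring) :
    dd P (e * f) = algebraMap P.Ring B e • dd P f + algebraMap P.Ring B f • dd P e := by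
  simp only [dd, Derivation.leibniz, TensorProduct.tmul_add, TensorProduct.tmul_smul, algebraMap_smul]

theorem dd_algebraMap (P : Extension.{u} A B) (r : A) : dd P (algebraMap A P.Ring r) = 0 := by
  simp [dd]

theorem toKaehler_dd (P : Extension.{u} A B) (e : P.Ring) :
    P.toKaehler (dd P e) = KaehlerDifferential.D A B (algebraMap P.Ring B e) := by
  simp [dd, KaehlerDifferential.mapBaseChange_tmul]

theorem eq_of_pair (P : Extension.{u} A B) (hsq : P.ker ^ 2 = ⊥) (hinj : Function.Injective P.cotangentComplex)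
    {e f : P.Ring} (h1 : algebraMap P.Ring B e = algebraMap P.Ring B f) (h2 : dd P e = dd P f) : e = f := by
  rw [← sub_eq_zero]
  have hk : e - f ∈ P.ker := by rw [RingHom.mem_ker, map_sub, h1, sub_self]
  have : Extension.Cotangent.mk (⟨e - f, hk⟩ : P.ker) = 0 := by
    refine hinj ?_
    rw [map_zero, cotangentComplex_mk']
    simp only [map_sub, TensorProduct.tmul_sub]
    exact sub_eq_zero.2 h2
  rw [Extension.Cotangent.mk_eq_zero_iff, hsq, Ideal.mem_bot] at this
  exact this

theorem exists_pair (P : Extension.{u} A B) (b : B) (ω : P.CotangentSpace)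
    (h : P.toKaehler ω = KaehlerDifferential.D A B b) :
    ∃ e : P.Ring, algebraMap P.Ring B e = b ∧ dd P e = ω := by
  obtain ⟨x, hx⟩ := (P.exact_cotangentComplex_toKaehler (ω - dd P (P.σ b))).1 (by
    rw [map_sub, h, toKaehler_dd, P.algebraMap_σ, sub_self])
  obtain ⟨a, rfl⟩ := Extension.Cotangent.mk_surjective x
  refine ⟨P.σ b + a, by rw [map_add, P.algebraMap_σ, RingHom.mem_ker.1 a.2, add_zero], ?_⟩
  rw [dd_add, show dd P (a : P.Ring) = _ from hx]
  abel

/-- Extensions with isomorphic conormal sequences are isomorphic. -/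
theorem exists_hom (P P' : Extension.{u} A B) (hsq : P.ker ^ 2 = ⊥) (hsq' : P'.ker ^ 2 = ⊥)
    (hi : Function.Injective P.cotangentComplex) (hi' : Function.Injective P'.cotangentComplex)
    (e₁ : P.Cotangent ≃ₗ[B] P'.Cotangent) (e₂ : P.CotangentSpace ≃ₗ[B] P'.CotangentSpace)
    (h₁ : ∀ x, e₂ (P.cotangentComplex x) = P'.cotangentComplex (e₁ x))
    (h₂ : ∀ y, P'.toKaehler (e₂ y) = P.toKaehler y) :
    ∃ f : P.Hom P', Function.Bijective f.toRingHom ∧ Extension.Cotangent.map f = e₁.toLinearMap := by
  have hex : ∀ e : P.Ring, ∃ e' : P'.Ring, algebraMap P'.Ring B e' = algebraMap P.Ring B e ∧ dd P' e' = e₂ (dd P e) :=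
    fun e => exists_pair P' _ _ (by rw [h₂, toKaehler_dd])
  choose F hF1 hF2 using hex
  let f : P.Ring →+* P'.Ring :=
    { toFun := F
      map_one' := eq_of_pair P' hsq' hi' (by rw [hF1, map_one, map_one]) (by
        rw [hF2, ← map_one (algebraMap A P.Ring), ← map_one (algebraMap A P'.Ring), dd_algebraMap, dd_algebraMap, map_zero])
      map_mul' := fun x y => eq_of_pair P' hsq' hi' (by simp only [map_mul, hF1]) (by
        simp only [dd_mul, hF2, hF1, map_add, map_smul])
      map_zero' := eq_of_pair P' hsq' hi' (by rw [hF1, map_zero, map_zero]) (by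
        rw [hF2, ← map_zero (algebraMap A P.Ring), ← map_zero (algebraMap A P'.Ring), dd_algebraMap, dd_algebraMap, map_zero])
      map_add' := fun x y => eq_of_pair P' hsq' hi' (by simp only [map_add, hF1]) (by
        simp only [dd_add, hF2, map_add]) }
  let h : P.Hom P' :=
    { toRingHom := f
      toRingHom_algebraMap := fun r => eq_of_pair P' hsq' hi'
        (by
          show algebraMap P'.Ring B (F _) = _
          rw [hF1, Algebra.algebraMap_self, RingHom.id_apply, ← IsScalarTower.algebraMap_apply, ← IsScalarTower.algebraMap_apply])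
        (by
          show dd P' (F _) = _
          rw [hF2, Algebra.algebraMap_self, RingHom.id_apply, dd_algebraMap, dd_algebraMap, map_zero])
      algebraMap_toRingHom := fun x => by
        show algebraMap P'.Ring B (F x) = _
        rw [hF1]; rfl }
  refine ⟨h, ⟨fun x y hxy => ?_, fun y => ?_⟩, ?_⟩
  · have h1 := congrArg (algebraMap P'.Ring B) hxy
    have h2 := congrArg (dd P') hxy
    change algebraMap P'.Ring B (F x) = algebraMap P'.Ring B (F y) at h1
    change dd P' (F x) = dd P' (F y) at h2
    rw [hF1, hF1] at h1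
    rw [hF2, hF2] at h2
    exact eq_of_pair P hsq hi h1 (e₂.injective h2)
  · obtain ⟨x, hx1, hx2⟩ := exists_pair P (algebraMap P'.Ring B y) (e₂.symm (dd P' y)) (by
      rw [← h₂, e₂.apply_symm_apply, toKaehler_dd])
    refine ⟨x, eq_of_pair P' hsq' hi' ?_ ?_⟩
    · show algebraMap P'.Ring B (F x) = _
      rw [hF1, hx1]
    · show dd P' (F x) = _
      rw [hF2, hx2, e₂.apply_symm_apply]
  · ext x : 1
    obtain ⟨a, rfl⟩ := Extension.Cotangent.mk_surjective x
    refine hi' ?_
    rw [Extension.Cotangent.map_mk, cotangentComplex_mk', LinearEquiv.coe_toLinearMap, ← h₁, cotangentComplex_mk']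
    exact hF2 a

end Groth.Agent.SqZeroEx
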