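import Groth.Agent.SqZeroEx.Basic
import Mathlib.Algebra.TrivSqZeroExt.Basic

/-! Every extension of `Ω[B⁄A]` by a module comes from a square-zero extension. -/

set_option autoImplicit false
set_option maxHeartbeats 1000000
set_option maxSynthPendingDepth 3

universe u

open Algebra TensorProduct KaehlerDifferential TrivSqZeroExt

noncomputable section

namespace Groth.Agent.SqZeroEx

variable {A B : Type u} [CommRing A] [CommRing B] [Algebra A B]

theorem exists_realizing (M N : Type u) [AddCommGroup M] [Module B M] [AddCommGroup N] [Module B N]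
    (i : M →ₗ[B] N) (q : N →ₗ[B] Ω[B⁄A]) (hi : Function.Injective i) (hq : Function.Surjective q)
    (hex : Function.Exact i q) :
    ∃ P : Extension.{u} A B, P.ker ^ 2 = ⊥ ∧
      ∃ (e₁ : P.Cotangent ≃ₗ[B] M) (e₂ : P.CotangentSpace ≃ₗ[B] N),
        (∀ x, e₂ (P.cotangentComplex x) = i (e₁ x)) ∧ (∀ y, q (e₂ y) = P.toKaehler y) := by
  letI : Module Bᵐᵒᵖ N := Module.compHom N ((RingHom.id B).fromOpposite mul_comm)
  haveI : IsCentralScalar B N := ⟨fun _ _ => rfl⟩
  letI : Module A N := Module.compHom N (algebraMap A B)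
  haveI : IsScalarTower A B N := IsScalarTower.of_algebraMap_smul fun _ _ => rfl
  haveI : IsScalarTower A Bᵐᵒᵖ N := ⟨fun a b n => by
    rw [← MulOpposite.op_unop b, ← MulOpposite.op_smul, op_smul_eq_smul, op_smul_eq_smul, smul_assoc]⟩
  let E : Subalgebra A (TrivSqZeroExt B N) :=
    { carrier := {x | q x.snd = KaehlerDifferential.D A B x.fst}
      mul_mem' := fun {x y} (hx : q x.snd = _) (hy : q y.snd = _) => by
        show q (x * y).snd = KaehlerDifferential.D A B (x * y).fst
        rw [snd_mul, fst_mul, op_smul_eq_smul, map_add, map_smul, map_smul, hx, hy, Derivation.leibniz]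
      add_mem' := fun {x y} (hx : q x.snd = _) (hy : q y.snd = _) => by
        show q (x + y).snd = KaehlerDifferential.D A B (x + y).fst
        rw [snd_add, fst_add, map_add, map_add, hx, hy]
      algebraMap_mem' := fun r => by
        show q (algebraMap A (TrivSqZeroExt B N) r).snd = KaehlerDifferential.D A B (algebraMap A (TrivSqZeroExt B N) r).fst
        rw [algebraMap_eq_inl', snd_inl, fst_inl, map_zero, Derivation.map_algebraMap] }
  have hsurj : Function.Surjective ((fstHom A B N).comp E.val) := fun b => by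
    obtain ⟨n, hn⟩ := hq (KaehlerDifferential.D A B b)
    exact ⟨⟨inl b + inr n, by
      show q (inl b + inr n : TrivSqZeroExt B N).snd = _
      simp [hn]⟩, by simp⟩
  let P : Extension.{u} A B := Extension.ofSurjective _ hsurj
  have hfst : ∀ e : P.Ring, algebraMap P.Ring B e = e.1.fst := fun _ => rfl
  have hmem : ∀ e : P.Ring, q e.1.snd = KaehlerDifferential.D A B (algebraMap P.Ring B e) := fun e => e.2
  have hsq : P.ker ^ 2 = ⊥ := by
    rw [pow_two, eq_bot_iff, Ideal.mul_le]
    intro x hx y hy
    rw [RingHom.mem_ker, hfst] at hx hy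
    rw [Ideal.mem_bot]
    refine Subtype.ext (TrivSqZeroExt.ext ?_ ?_)
    · show (x.1 * y.1).fst = _
      rw [fst_mul, hx, zero_mul]; rfl
    · show (x.1 * y.1).snd = _
      rw [snd_mul, op_smul_eq_smul, hx, hy, zero_smul, zero_smul, add_zero]; rfl
  refine ⟨P, hsq, ?_⟩
  letI : Module P.Ring N := Module.compHom N (algebraMap P.Ring B)
  haveI : IsScalarTower P.Ring B N := IsScalarTower.of_algebraMap_smul fun _ _ => rfl
  haveI : IsScalarTower A P.Ring N := IsScalarTower.of_algebraMap_smul fun r n => by
    show algebraMap P.Ring B (algebraMap A P.Ring r) • n = _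
    rw [← IsScalarTower.algebraMap_apply, algebraMap_smul]
  let δ : Derivation A P.Ring N := Derivation.mk'
    { toFun := fun e => e.1.snd
      map_add' := fun x y => snd_add _ _
      map_smul' := fun r x => snd_smul _ _ }
    fun x y => by
      show (x.1 * y.1).snd = algebraMap P.Ring B x • y.1.snd + algebraMap P.Ring B y • x.1.snd
      rw [snd_mul, op_smul_eq_smul, hfst, hfst]
  let h : P.CotangentSpace →ₗ[B] N := δ.liftKaehlerDifferential.liftBaseChange B
  have hh : ∀ e, h (dd P e) = e.1.snd := fun e => by
    simp only [h, dd, LinearMap.liftBaseChange_tmul, one_smul, Derivation.liftKaehlerDifferential_comp_D]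
    rfl
  have hqh : ∀ y, q (h y) = P.toKaehler y := by
    suffices q.comp h = P.toKaehler from fun y => LinearMap.congr_fun this y
    refine TensorProduct.AlgebraTensorModule.curry_injective (LinearMap.ext_ring ?_)
    refine LinearMap.ext fun ω => ?_
    have hω : ω ∈ Submodule.span P.Ring (Set.range (KaehlerDifferential.D A P.Ring)) :=
      (KaehlerDifferential.span_range_derivation A P.Ring).symm ▸ Submodule.mem_top
    show q (h (1 ⊗ₜ ω)) = P.toKaehler (1 ⊗ₜ ω)
    induction hω using Submodule.span_induction with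
    | mem y hy =>
      obtain ⟨e, rfl⟩ := hy
      show q (h (dd P e)) = P.toKaehler (dd P e)
      rw [hh, toKaehler_dd, hmem]
    | zero => simp
    | add a b _ _ h1 h2 => simp [TensorProduct.tmul_add, h1, h2]
    | smul r a _ h1 => rw [TensorProduct.tmul_smul, ← algebraMap_smul B r, map_smul, map_smul, map_smul, h1]
  let c : P.Cotangent →ₗ[B] N := h.comp P.cotangentComplex
  have hc : ∀ a : P.ker, c (Extension.Cotangent.mk a) = a.1.1.snd := fun a => hh a.1
  have hcinj : Function.Injective c := by
    refine (injective_iff_map_eq_zero _).2 fun x hx => ?_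
    obtain ⟨a, rfl⟩ := Extension.Cotangent.mk_surjective x
    rw [hc] at hx
    have ha := a.2
    rw [RingHom.mem_ker, hfst] at ha
    rw [show a = 0 from Subtype.ext (Subtype.ext (TrivSqZeroExt.ext ha hx)), map_zero]
  have hrange : LinearMap.range c = LinearMap.range i := by
    refine le_antisymm ?_ ?_
    · rintro _ ⟨x, rfl⟩
      obtain ⟨a, rfl⟩ := Extension.Cotangent.mk_surjective x
      rw [hc]
      exact (hex _).1 (by rw [hmem, RingHom.mem_ker.1 a.2, map_zero])
    · rintro _ ⟨m, rfl⟩
      let e : P.Ring := ⟨inr (i m), by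
        show q (inr (i m) : TrivSqZeroExt B N).snd = _
        simp [hex.apply_apply_eq_zero]⟩
      exact ⟨Extension.Cotangent.mk ⟨e, by rw [RingHom.mem_ker, hfst]; simp [e]⟩, (hc _).trans (snd_inr _ _)⟩
  let e₁ : P.Cotangent ≃ₗ[B] M :=
    (LinearEquiv.ofInjective c hcinj).trans ((LinearEquiv.ofEq _ _ hrange).trans (LinearEquiv.ofInjective i hi).symm)
  have he₁ : ∀ x, i (e₁ x) = c x := fun x => by
    simp only [e₁, LinearEquiv.trans_apply]
    exact congrArg Subtype.val ((LinearEquiv.ofInjective i hi).apply_symm_apply _)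
  have hbij : Function.Bijective h := by
    refine ⟨(injective_iff_map_eq_zero _).2 fun y hy => ?_, fun n => ?_⟩
    · obtain ⟨x, rfl⟩ := (P.exact_cotangentComplex_toKaehler y).1 (by rw [← hqh, hy, map_zero])
      rw [hcinj (hy.trans (map_zero c).symm), map_zero]
    · obtain ⟨y, hy⟩ := P.toKaehler_surjective (q n)
      obtain ⟨x, hx⟩ : n - h y ∈ LinearMap.range c := by
        rw [hrange]
        exact (hex _).1 (by rw [map_sub, hqh, hy, sub_self])
      refine ⟨y + P.cotangentComplex x, ?_⟩
      rw [map_add]
      show h y + c x = n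
      rw [hx]; abel
  exact ⟨e₁, LinearEquiv.ofBijective h hbij, fun x => (he₁ x).symm, hqh⟩

end Groth.Agent.SqZeroEx
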